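import Mathlib.GroupTheory.FixedPointFree
import Mathlib.GroupTheory.QuotientGroup.Basic

/-!
# A four-group acting without fixed points (helper54, HN cluster)

If commuting elements `e₁`, `e₂` normalise `N` and `M ⊴ N` and neither of `e₁`, `e₂`, `e₁ e₂`
centralises a non-trivial element of `N / M`, then `N = M`.
-/

set_option autoImplicit false

universe u

namespace Cfsg.Agent.Lib.HNType12.Fpf

open Subgroup

variable {G : Type u} [Group G] [Finite G]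

theorem inv_of_fixed (N M : Subgroup G) [(M.subgroupOf N).Normal] (e : G)
    (he : e * e = 1) (hN : ∀ n ∈ N, e * n * e⁻¹ ∈ N) (hM : ∀ n ∈ M, e * n * e⁻¹ ∈ M)
    (hfree : ∀ n ∈ N, n⁻¹ * (e * n * e⁻¹) ∈ M → n ∈ M) :
    ∀ n ∈ N, n * (e * n * e⁻¹) ∈ M := by
  let f : ↥N →* ↥N :=
    { toFun := fun n => ⟨e * n * e⁻¹, hN n n.2⟩
      map_one' := Subtype.ext (by simp)
      map_mul' := fun a b => Subtype.ext (by simp [mul_assoc]) }
  let g : ↥N ⧸ M.subgroupOf N →* ↥N ⧸ M.subgroupOf N :=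
    QuotientGroup.map _ _ f (fun n hn => hM (n : G) hn)
  have hei : e⁻¹ = e := inv_eq_of_mul_eq_one_left he
  have h2 : Function.Involutive g := by
    intro q
    obtain ⟨n, rfl⟩ := QuotientGroup.mk'_surjective _ q
    show QuotientGroup.mk (f (f n)) = QuotientGroup.mk n
    refine congrArg _ (Subtype.ext ?_)
    show e * (e * (n : G) * e⁻¹) * e⁻¹ = n
    rw [hei]
    calc e * (e * (n : G) * e) * e = (e * e) * n * (e * e) := by group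
      _ = n := by rw [he, one_mul, mul_one]
  have hfp : MonoidHom.FixedPointFree g := by
    intro q hq
    obtain ⟨n, rfl⟩ := QuotientGroup.mk'_surjective _ q
    have h' : ((f n : ↥N) : ↥N ⧸ M.subgroupOf N) = (n : ↥N ⧸ M.subgroupOf N) := hq
    have h'' := QuotientGroup.eq.1 h'.symm
    exact (QuotientGroup.eq_one_iff n).2 (hfree (n : G) n.2 (by simpa [mem_subgroupOf, f] using h''))
  intro n hn
  have h := congrFun (hfp.coe_eq_inv_of_involutive h2) (QuotientGroup.mk ⟨n, hn⟩)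
  have h' : ((f ⟨n, hn⟩ : ↥N) : ↥N ⧸ M.subgroupOf N) =
      (((⟨n, hn⟩ : ↥N)⁻¹ : ↥N) : ↥N ⧸ M.subgroupOf N) := h
  have := QuotientGroup.eq.1 h'.symm
  simpa [mem_subgroupOf, f] using this

/-- No four-group acts freely on a non-trivial quotient. -/
theorem le_of_four (N M : Subgroup G) (hMN : M ≤ N) [(M.subgroupOf N).Normal] (e₁ e₂ : G)
    (h1 : e₁ * e₁ = 1) (h2 : e₂ * e₂ = 1)
    (hN1 : ∀ n ∈ N, e₁ * n * e₁⁻¹ ∈ N) (hN2 : ∀ n ∈ N, e₂ * n * e₂⁻¹ ∈ N)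
    (hM1 : ∀ n ∈ M, e₁ * n * e₁⁻¹ ∈ M) (hM2 : ∀ n ∈ M, e₂ * n * e₂⁻¹ ∈ M)
    (f1 : ∀ n ∈ N, n⁻¹ * (e₁ * n * e₁⁻¹) ∈ M → n ∈ M)
    (f2 : ∀ n ∈ N, n⁻¹ * (e₂ * n * e₂⁻¹) ∈ M → n ∈ M)
    (f3 : ∀ n ∈ N, n⁻¹ * (e₁ * e₂ * n * (e₁ * e₂)⁻¹) ∈ M → n ∈ M) : N ≤ M := by
  intro n hn
  refine f3 n hn ?_
  set m := e₂ * n * e₂⁻¹ with hm
  have hmN : m ∈ N := hN2 n hn
  have hA := inv_of_fixed N M e₁ h1 hN1 hM1 f1 m hmN
  have hB := inv_of_fixed N M e₂ h2 hN2 hM2 f2 n hn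
  -- `n m ∈ M` and `m (e₁ m e₁⁻¹) ∈ M`
  have hC : n⁻¹ * (n * m) * n ∈ M := by
    have h := Subgroup.Normal.conj_mem (inferInstance : (M.subgroupOf N).Normal)
      (⟨n * m, hMN hB⟩ : ↥N) hB (⟨n, hn⟩⁻¹)
    simpa [mem_subgroupOf] using h
  have e : n⁻¹ * (e₁ * e₂ * n * (e₁ * e₂)⁻¹) =
      (n⁻¹ * (n * m) * n)⁻¹ * (m * (e₁ * m * e₁⁻¹)) := by
    rw [hm]; group
  rw [e]
  exact mul_mem (inv_mem hC) hA

end Cfsg.Agent.Lib.HNType12.Fpf
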