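import Cfsg.Agent.Lib.HNType12.Whole.Fpf
import Cfsg.Prelude.Def_TwoFusion
import Mathlib.GroupTheory.Nilpotent
import Mathlib.GroupTheory.Sylow

/-!
# The local argument in the second centraliser (helper54, HN cluster)

`X` is `C(b)`, so `b` is central.  `Y` is the known part, `Q` a normal subgroup of `Y` with
`Q/⟨b⟩` elementary abelian, and `t ∈ Q` satisfies `C(t) ≤ Y`.  Every element of `Y` whose square
lies in `⟨b⟩` either normalises some `{d, d b}`, `d` conjugate to `t`, or has square `b` and is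
controlled by an elementary subgroup `U` of `Q`.  Then every conjugate in `Y` of an element of
`Q` lies in `Q`.
-/

set_option autoImplicit false
set_option linter.style.haveILetI false

universe u

namespace Cfsg.Agent.Lib.HNType12.Whole

open Subgroup

variable {X : Type u} [Group X]

/-- `x` lies in `{v, v b}`. -/
def Near (b v x : X) : Prop := x = v ∨ x = v * b

/-- An elementary subgroup `U` controlling the element `v`. -/
structure Special (b v : X) (Y Q U : Subgroup X) : Prop where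
  le : U ≤ Q
  comm : ∀ u ∈ U, ∀ w ∈ U, u * w = w * u
  inv : ∀ u ∈ U, u * u = 1
  mem : b ∈ U
  iff : ∀ q ∈ Q, q ∈ U ↔ Near b v (q * v * q⁻¹)
  two : IsPGroup 2 ↥(Y ⊓ centralizer (U : Set X))
  abel : ∀ p ∈ Y ⊓ centralizer (U : Set X), ∀ p' ∈ Y ⊓ centralizer (U : Set X),
    p * p' * p⁻¹ * p'⁻¹ ∈ U
  cover : ∀ g : X, (∀ u ∈ U, Near b u (g * u * g⁻¹)) → ∃ q ∈ Q, ∀ u ∈ U, g * u * g⁻¹ = q * u * q⁻¹

/-- The facts on `Y` and `Q`. -/
structure Setting (b t : X) (Y Q : Subgroup X) : Prop where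
  central : ∀ x : X, x * b = b * x
  bb : b * b = 1
  b_ne : b ≠ 1
  t_inv : t * t = 1
  Q_le : Q ≤ Y
  b_mem : b ∈ Q
  t_mem : t ∈ Q
  normal : ∀ y ∈ Y, ∀ q ∈ Q, y * q * y⁻¹ ∈ Q
  comm : ∀ q ∈ Q, ∀ r ∈ Q, Near b r (q * r * q⁻¹)
  sq : ∀ q ∈ Q, Near b 1 (q * q)
  two : IsPGroup 2 ↥Q
  cent : centralizer ({t} : Set X) ≤ Y
  orbit : ∀ x : X, x * t * x⁻¹ ∈ Y → ∃ y ∈ Y, y * t * y⁻¹ = x * t * x⁻¹
  four : ∃ y₁ ∈ Y, ∃ y₂ ∈ Y, y₁ * t * y₁⁻¹ * (y₂ * t * y₂⁻¹) = y₂ * t * y₂⁻¹ * (y₁ * t * y₁⁻¹) ∧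
    ∃ y₃ ∈ Y, y₃ * t * y₃⁻¹ = y₁ * t * y₁⁻¹ * (y₂ * t * y₂⁻¹)
  cases : ∀ v ∈ Y, v ∉ Q → Near b 1 (v * v) →
    (∃ y ∈ Y, Near b v (y * t * y⁻¹ * v * (y * t * y⁻¹)⁻¹)) ∨
      (v * v = b ∧ ∃ U : Subgroup X, Special b v Y Q U)

variable {b t : X} {Y Q : Subgroup X}

theorem Setting.near_conj (h : Setting b t Y Q) {v x : X} (g : X) (hx : Near b v x) :
    Near b (g * v * g⁻¹) (g * x * g⁻¹) := by
  rcases hx with rfl | rfl
  · exact Or.inl rfl
  · refine Or.inr ?_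
    calc g * (v * b) * g⁻¹ = g * v * (b * g⁻¹) := by group
      _ = g * v * (g⁻¹ * b) := by rw [← h.central g⁻¹]
      _ = g * v * g⁻¹ * b := by group

theorem Setting.near_trans (h : Setting b t Y Q) {v w x : X} (h1 : Near b v w) (h2 : Near b w x) :
    Near b v x := by
  rcases h1 with rfl | rfl <;> rcases h2 with rfl | rfl
  · exact Or.inl rfl
  · exact Or.inr rfl
  · exact Or.inr rfl
  · exact Or.inl (by rw [mul_assoc, h.bb, mul_one])

theorem Setting.near_symm (h : Setting b t Y Q) {v x : X} (h1 : Near b v x) : Near b x v := by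
  rcases h1 with rfl | rfl
  · exact Or.inl rfl
  · exact Or.inr (by rw [mul_assoc, h.bb, mul_one])

/-- The elements moving `v` at most to `v b`. -/
def stab (h : Setting b t Y Q) (v : X) : Subgroup X where
  carrier := {g | Near b v (g * v * g⁻¹)}
  one_mem' := Or.inl (by simp)
  mul_mem' := fun {g k} hg hk => by
    have := h.near_conj g hk
    rw [show g * (k * v * k⁻¹) * g⁻¹ = g * k * v * (g * k)⁻¹ by group] at this
    exact h.near_trans hg this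
  inv_mem' := fun {g} hg => by
    have := h.near_conj g⁻¹ hg
    rw [show g⁻¹ * (g * v * g⁻¹) * g⁻¹⁻¹ = v by group] at this
    exact h.near_symm this

theorem mem_stab (h : Setting b t Y Q) {v g : X} :
    g ∈ stab h v ↔ Near b v (g * v * g⁻¹) := Iff.rfl

theorem Setting.mem_Y (h : Setting b t Y Q) {v x : X} (hx : Near b v x) (hv : v ∈ Y) : x ∈ Y := by
  rcases hx with rfl | rfl
  · exact hv
  · exact mul_mem hv (h.Q_le h.b_mem)

theorem Setting.mem_Q (h : Setting b t Y Q) {v x : X} (hx : Near b v x) (hv : v ∈ Q) : x ∈ Q := by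
  rcases hx with rfl | rfl
  · exact hv
  · exact mul_mem hv h.b_mem

/-- An element sending `t` into `Y` lies in `Y`. -/
theorem Setting.blk (h : Setting b t Y Q) {x : X} (hx : x * t * x⁻¹ ∈ Y) : x ∈ Y := by
  obtain ⟨y, hy, he⟩ := h.orbit x hx
  have h' : y⁻¹ * x ∈ centralizer ({t} : Set X) := by
    rw [mem_centralizer_singleton_iff]
    calc y⁻¹ * x * t = y⁻¹ * (x * t * x⁻¹) * x := by group
      _ = t * (y⁻¹ * x) := by rw [← he]; group
  have := mul_mem hy (h.cent h')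
  rwa [mul_inv_cancel_left] at this

/-- An element sending some conjugate of `t` into `Y` by an element of `Y` lies in `Y`. -/
theorem Setting.blk_of (h : Setting b t Y Q) {x y : X} (hy : y ∈ Y)
    (hx : x * (y * t * y⁻¹) * x⁻¹ ∈ Y) : x ∈ Y := by
  have h' : x * y ∈ Y := h.blk (by rwa [show x * y * t * (x * y)⁻¹ = x * (y * t * y⁻¹) * x⁻¹ by group])
  have := mul_mem h' (inv_mem hy)
  rwa [mul_inv_cancel_right] at this

theorem exists_normalizer_gt [Finite X] {T P : Subgroup X} (hP : IsPGroup 2 P) (hlt : T < P) :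
    ∃ g ∈ P, g ∉ T ∧ ∀ a ∈ T, g * a * g⁻¹ ∈ T := by
  haveI : Fact (Nat.Prime 2) := ⟨Nat.prime_two⟩
  haveI := hP.isNilpotent
  have hT : T.subgroupOf P < ⊤ := by
    rw [lt_top_iff_ne_top, ne_eq, subgroupOf_eq_top]
    exact hlt.not_ge
  obtain ⟨g, hgN, hgT⟩ := SetLike.exists_of_lt (Group.normalizerCondition_of_isNilpotent _ hT)
  refine ⟨g, g.2, fun hg => hgT (mem_subgroupOf.2 hg), fun a ha => ?_⟩
  have := (mem_normalizer_iff.1 hgN ⟨a, hlt.le ha⟩).1 (mem_subgroupOf.2 ha)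
  simpa [mem_subgroupOf] using this

/-- A `2`-subgroup containing a conjugate of `t` under `Y` lies in `Y`. -/
theorem Setting.two_le [Finite X] (h : Setting b t Y Q) {R : Subgroup X} (hR : IsPGroup 2 R)
    {y : X} (hy : y ∈ Y) (hd : y * t * y⁻¹ ∈ R) : R ≤ Y := by
  haveI : Fact (Nat.Prime 2) := ⟨Nat.prime_two⟩
  obtain ⟨P, hP⟩ := hR.exists_le_sylow
  refine hP.trans ?_
  by_contra hne
  have hlt : (P : Subgroup X) ⊓ Y < (P : Subgroup X) :=
    lt_of_le_of_ne inf_le_left fun e => hne (inf_eq_left.1 e)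
  obtain ⟨g, hgP, hg, hn⟩ := exists_normalizer_gt P.2 hlt
  have hdY : y * t * y⁻¹ ∈ Y := mul_mem (mul_mem hy (h.Q_le h.t_mem)) (inv_mem hy)
  exact hg ⟨hgP, h.blk_of hy (hn _ ⟨hP hd, hdY⟩).2⟩

theorem exists_conj_mem_sylow [Finite X] {L R : Subgroup X} (hR : IsPGroup 2 R) (hRL : R ≤ L)
    (hmax : ∀ T : Subgroup X, IsPGroup 2 T → R ≤ T → T ≤ L → T = R) {e : X} (he : e ∈ L)
    (hee : e * e = 1) : ∃ c ∈ L, c * e * c⁻¹ ∈ R := by
  haveI : Fact (Nat.Prime 2) := ⟨Nat.prime_two⟩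
  have hmapR : (R.subgroupOf L).map L.subtype = R := by
    rw [subgroupOf_map_subtype, inf_eq_left.2 hRL]
  let P : Sylow 2 ↥L := ⟨R.subgroupOf L, hR.comap_of_injective L.subtype L.subtype_injective, by
    intro T hT hle
    have h' := hmax (T.map L.subtype) (hT.map L.subtype) (hmapR ▸ map_mono hle)
      (map_subtype_le T)
    exact map_injective L.subtype_injective (h'.trans hmapR.symm)⟩
  have he2 : IsPGroup 2 ↥(zpowers (⟨e, he⟩ : ↥L)) := by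
    intro g
    refine ⟨1, ?_⟩
    obtain ⟨k, hk⟩ := mem_zpowers_iff.1 g.2
    refine Subtype.ext ?_
    have hee' : (⟨e, he⟩ : ↥L) ^ 2 = 1 := by rw [pow_two]; exact Subtype.ext hee
    simp only [SubgroupClass.coe_pow, OneMemClass.coe_one, pow_one, ← hk]
    rw [← zpow_natCast, ← zpow_mul, mul_comm, zpow_mul, zpow_natCast, hee', one_zpow]
  obtain ⟨S, hS⟩ := he2.exists_le_sylow
  obtain ⟨c, hc⟩ := MulAction.exists_smul_eq ↥L S P
  refine ⟨c, c.2, ?_⟩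
  have hmem : c * (⟨e, he⟩ : ↥L) * c⁻¹ ∈ (P : Subgroup ↥L) := by
    rw [← hc, Sylow.coe_subgroup_smul]
    exact Subgroup.smul_mem_pointwise_smul (a := MulAut.conj c) _ _ (hS (mem_zpowers _))
  exact mem_subgroupOf.1 hmem

theorem exists_maximal [Finite X] {L R₀ : Subgroup X} (hR₀ : IsPGroup 2 R₀) (hle : R₀ ≤ L) :
    ∃ R : Subgroup X, IsPGroup 2 R ∧ R₀ ≤ R ∧ R ≤ L ∧
      ∀ T : Subgroup X, IsPGroup 2 T → R ≤ T → T ≤ L → T = R := by
  obtain ⟨R, hR, hmax⟩ := (Set.toFinite {R : Subgroup X | IsPGroup 2 R ∧ R₀ ≤ R ∧ R ≤ L}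
    ).exists_le_maximal (a := R₀) ⟨hR₀, le_rfl, hle⟩
  exact ⟨R, hmax.prop.1, hmax.prop.2.1, hmax.prop.2.2, fun T hT hRT hTL =>
    le_antisymm (hmax.2 ⟨hT, hmax.prop.2.1.trans hRT, hTL⟩ hRT) hRT⟩

theorem isPGroup_zpowers {z : X} {n : ℕ} (hz : z ^ 2 ^ n = 1) : IsPGroup 2 ↥(zpowers z) := by
  intro g
  refine ⟨n, Subtype.ext ?_⟩
  obtain ⟨k, hk⟩ := mem_zpowers_iff.1 g.2
  rw [SubgroupClass.coe_pow, ← hk, OneMemClass.coe_one, ← zpow_natCast, ← zpow_mul, mul_comm,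
    zpow_mul, zpow_natCast, hz, one_zpow]

theorem Setting.t_conj_sq (h : Setting b t Y Q) (x : X) : x * t * x⁻¹ * (x * t * x⁻¹) = 1 := by
  rw [show x * t * x⁻¹ * (x * t * x⁻¹) = x * (t * t) * x⁻¹ by group, h.t_inv, mul_one,
    mul_inv_cancel]

/-- If a maximal `2`-subgroup of the stabiliser of a conjugate `v` of `u ∈ Q` lies in `Y`, then
`v ∈ Q`. -/
theorem Setting.mem_Q_of_stab [Finite X] (h : Setting b t Y Q) {u x : X} (hu : u ∈ Q)
    {R : Subgroup X} (hR : IsPGroup 2 R) (hRL : R ≤ stab h (x * u * x⁻¹))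
    (hmax : ∀ T : Subgroup X, IsPGroup 2 T → R ≤ T → T ≤ stab h (x * u * x⁻¹) → T = R)
    (hRY : R ≤ Y) : x * u * x⁻¹ ∈ Q := by
  have he : x * t * x⁻¹ ∈ stab h (x * u * x⁻¹) := by
    rw [mem_stab]
    have := h.near_conj x (h.comm t h.t_mem u hu)
    rwa [show x * (t * u * t⁻¹) * x⁻¹ = x * t * x⁻¹ * (x * u * x⁻¹) * (x * t * x⁻¹)⁻¹ by group]
      at this
  obtain ⟨c, hc, hce⟩ := exists_conj_mem_sylow hR hRL hmax he (h.t_conj_sq x)
  have hcx : c * x ∈ Y := h.blk (by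
    rw [show c * x * t * (c * x)⁻¹ = c * (x * t * x⁻¹) * c⁻¹ by group]
    exact hRY hce)
  have hQ : c * x * u * (c * x)⁻¹ ∈ Q := h.normal _ hcx _ hu
  rw [show c * x * u * (c * x)⁻¹ = c * (x * u * x⁻¹) * c⁻¹ by group] at hQ
  exact h.mem_Q (h.near_symm ((mem_stab h).1 hc)) hQ

/-- The case of an element normalising some `{d, d b}`. -/
theorem Setting.mem_Q_of_good [Finite X] (h : Setting b t Y Q) {u x : X} (hu : u ∈ Q) {y : X}
    (hy : y ∈ Y)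
    (hd : Near b (x * u * x⁻¹) (y * t * y⁻¹ * (x * u * x⁻¹) * (y * t * y⁻¹)⁻¹)) :
    x * u * x⁻¹ ∈ Q := by
  have hd' : y * t * y⁻¹ ∈ stab h (x * u * x⁻¹) := hd
  obtain ⟨R, hR, hdR, hRL, hmax⟩ := exists_maximal
    (isPGroup_zpowers (z := y * t * y⁻¹) (n := 1) (by rw [pow_one, pow_two, h.t_conj_sq]))
    (zpowers_le.2 hd')
  exact h.mem_Q_of_stab hu hR hRL hmax (h.two_le hR hy (hdR (mem_zpowers _)))

/-- Conjugates in `Y` of involutions of `Q` lie in `Q`. -/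
theorem Setting.mem_Q_of_sq [Finite X] (h : Setting b t Y Q) {u x : X} (hu : u ∈ Q)
    (huu : u * u = 1) (hx : x * u * x⁻¹ ∈ Y) : x * u * x⁻¹ ∈ Q := by
  have hvv : x * u * x⁻¹ * (x * u * x⁻¹) = 1 := by
    rw [show x * u * x⁻¹ * (x * u * x⁻¹) = x * (u * u) * x⁻¹ by group, huu, mul_one,
      mul_inv_cancel]
  by_contra hv
  rcases h.cases _ hx hv (Or.inl hvv) with ⟨y, hy, hd⟩ | ⟨hsq, -⟩
  · exact hv (h.mem_Q_of_good hu hy hd)
  · exact h.b_ne (hsq.symm.trans hvv)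

theorem Setting.four_free [Finite X] (h : Setting b t Y Q) (N M : Subgroup X) (hMN : M ≤ N)
    [(M.subgroupOf N).Normal] (hMY : M ≤ Y) (hNY : N ⊓ Y ≤ M)
    (hN : ∀ q ∈ Q, ∀ n ∈ N, q * n * q⁻¹ ∈ N) (hM : ∀ q ∈ Q, ∀ n ∈ M, q * n * q⁻¹ ∈ M) :
    N ≤ M := by
  obtain ⟨y₁, hy₁, y₂, hy₂, -, y₃, hy₃, he₃⟩ := h.four
  have hQ : ∀ y ∈ Y, y * t * y⁻¹ ∈ Q := fun y hy => h.normal y hy t h.t_mem
  have hfree : ∀ y ∈ Y, ∀ n ∈ N,
      n⁻¹ * (y * t * y⁻¹ * n * (y * t * y⁻¹)⁻¹) ∈ M → n ∈ M := fun y hy n hn hm => by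
    refine hNY ⟨hn, ?_⟩
    have h' : n⁻¹ * (y * t * y⁻¹) * n ∈ Y := by
      have := mul_mem (hMY hm) (h.Q_le (hQ y hy))
      rwa [show n⁻¹ * (y * t * y⁻¹ * n * (y * t * y⁻¹)⁻¹) * (y * t * y⁻¹) =
        n⁻¹ * (y * t * y⁻¹) * n by group] at this
    have := h.blk_of (x := n⁻¹) hy (by rwa [inv_inv])
    simpa using inv_mem this
  refine Fpf.le_of_four N M hMN (y₁ * t * y₁⁻¹) (y₂ * t * y₂⁻¹) (h.t_conj_sq _) (h.t_conj_sq _)
    (hN _ (hQ _ hy₁)) (hN _ (hQ _ hy₂)) (hM _ (hQ _ hy₁)) (hM _ (hQ _ hy₂)) (hfree _ hy₁)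
    (hfree _ hy₂) ?_
  rw [← he₃]
  exact hfree _ hy₃

end Cfsg.Agent.Lib.HNType12.Whole
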