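import Cfsg.Agent.Lib.HNType12.Whole.Local
import Mathlib.GroupTheory.Transfer

/-!
# The special elements and the strong closure of `Q` (helper54, HN cluster)
-/

set_option autoImplicit false
set_option linter.style.haveILetI false

universe u

namespace Cfsg.Agent.Lib.HNType12.Whole

open Subgroup

variable {X : Type u} [Group X] [Finite X] {b t v : X} {Y Q U : Subgroup X}

omit [Finite X] in
theorem Setting.conj_mem_U (h : Setting b t Y Q) (hU : Special b v Y Q U) {q : X} (hq : q ∈ Q)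
    {u : X} (hu : u ∈ U) : q * u * q⁻¹ ∈ U := by
  rcases h.comm q hq u (hU.le hu) with e | e <;> rw [e]
  · exact hu
  · exact mul_mem hu hU.mem

omit [Finite X] in
theorem conj_mem_centralizer {g : X} (hg : ∀ u ∈ U, g⁻¹ * u * g ∈ U) {c : X}
    (hc : c ∈ centralizer (U : Set X)) : g * c * g⁻¹ ∈ centralizer (U : Set X) := by
  rw [mem_centralizer_iff] at hc ⊢
  intro u hu
  have := hc _ (hg u hu)
  calc u * (g * c * g⁻¹) = g * ((g⁻¹ * u * g) * c) * g⁻¹ := by group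
    _ = g * c * g⁻¹ * u := by rw [this]; group

/-- The centraliser of `U` lies in `Y`. -/
theorem Setting.centralizer_U_le (h : Setting b t Y Q) (hU : Special b v Y Q U) :
    centralizer (U : Set X) ≤ Y := by
  haveI : Fact (Nat.Prime 2) := ⟨Nat.prime_two⟩
  have hUC : U ≤ centralizer (U : Set X) := fun u hu =>
    mem_centralizer_iff.2 fun w hw => hU.comm w hw u hu
  have hUY : U ≤ Y := hU.le.trans h.Q_le
  have hqC : ∀ q ∈ Q, ∀ c ∈ centralizer (U : Set X), q * c * q⁻¹ ∈ centralizer (U : Set X) :=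
    fun q hq c hc => conj_mem_centralizer (fun u hu => by
      simpa using h.conj_mem_U hU (inv_mem hq) hu) hc
  have hqY : ∀ q ∈ Q, ∀ c ∈ Y, q * c * q⁻¹ ∈ Y := fun q hq c hc =>
    mul_mem (mul_mem (h.Q_le hq) hc) (inv_mem (h.Q_le hq))
  set C := centralizer (U : Set X) with hC
  set P := Y ⊓ C with hP
  -- `P` is self-normalising in `C`
  haveI : (P.subgroupOf (C ⊓ normalizer (P : Set X))).Normal := by
    refine ⟨fun n hn g => ?_⟩
    have := (mem_normalizer_iff.1 g.2.2 (n : X)).1 hn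
    simpa [mem_subgroupOf] using this
  have hNP : C ⊓ normalizer (P : Set X) ≤ P := by
    refine h.four_free _ P (le_inf inf_le_right le_normalizer) inf_le_left
      (fun n hn => ⟨hn.2, hn.1.1⟩) (fun q hq n hn => ⟨hqC q hq n hn.1, ?_⟩)
      (fun q hq n hn => ⟨hqY q hq n hn.1, hqC q hq n hn.2⟩)
    have hqN : q ∈ normalizer (P : Set X) :=
      mem_normalizer_fintype fun p hp => ⟨hqY q hq p hp.1, hqC q hq p hp.2⟩
    exact Subgroup.mul_mem _ (Subgroup.mul_mem _ hqN hn.2) (Subgroup.inv_mem _ hqN)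
  -- Burnside in `C / U`
  haveI hUn : (U.subgroupOf C).Normal := by
    refine ⟨fun n hn g => ?_⟩
    have hc := mem_centralizer_iff.1 g.2 (n : X) hn
    show ((g : X) * n * (g : X)⁻¹) ∈ U
    rw [← hc, mul_inv_cancel_right]
    exact hn
  let π : ↥C →* ↥C ⧸ U.subgroupOf C := QuotientGroup.mk' _
  have hπ : Function.Surjective π := QuotientGroup.mk'_surjective _
  have hπU : ∀ c : ↥C, π c = 1 ↔ (c : X) ∈ U := fun c =>
    (QuotientGroup.eq_one_iff c).trans mem_subgroupOf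
  have hPC : (P.subgroupOf C).map C.subtype = P := by
    rw [subgroupOf_map_subtype, inf_eq_left.2 inf_le_right]
  let SP : Sylow 2 ↥C := ⟨P.subgroupOf C, hU.two.comap_of_injective C.subtype C.subtype_injective, by
    intro T hT hle
    by_contra hne
    have hlt : P < T.map C.subtype := by
      rw [← hPC]
      exact (map_lt_map_iff_of_injective C.subtype_injective).2 (lt_of_le_of_ne hle (Ne.symm hne))
    obtain ⟨g, hgT, hgP, hg⟩ := exists_normalizer_gt (hT.map C.subtype) hlt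
    refine hgP (hNP ⟨map_subtype_le T hgT, ?_⟩)
    exact mem_normalizer_fintype hg⟩
  let SB : Sylow 2 (↥C ⧸ U.subgroupOf C) := SP.mapSurjective hπ
  have hSB : (SB : Subgroup (↥C ⧸ U.subgroupOf C)) = (P.subgroupOf C).map π :=
    Sylow.coe_mapSurjective hπ SP
  have hcomap : ∀ c : ↥C, π c ∈ (SB : Subgroup (↥C ⧸ U.subgroupOf C)) → (c : X) ∈ P := by
    intro c hc
    rw [hSB] at hc
    obtain ⟨p, hp, hpc⟩ := hc
    have h1 : π (p⁻¹ * c) = 1 := by rw [map_mul, map_inv, hpc, inv_mul_cancel]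
    have h2 := (hπU _).1 h1
    have h3 : (p : X) * ((p⁻¹ * c : ↥C) : X) ∈ P :=
      mul_mem hp ⟨hUY h2, hUC h2⟩
    simpa using h3
  have hB : normalizer ((SB : Subgroup (↥C ⧸ U.subgroupOf C)) : Set (↥C ⧸ U.subgroupOf C)) ≤
      centralizer ((SB : Subgroup (↥C ⧸ U.subgroupOf C)) : Set (↥C ⧸ U.subgroupOf C)) := by
    intro z hz
    obtain ⟨c, rfl⟩ := hπ z
    have hcP : (c : X) ∈ P := by
      refine hNP ⟨c.2, mem_normalizer_fintype fun p hp => ?_⟩
      have h1 := (mem_normalizer_iff.1 hz (π ⟨p, hp.2⟩)).1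
        (by rw [hSB]; exact ⟨⟨p, hp.2⟩, hp, rfl⟩)
      rw [← map_inv, ← map_mul, ← map_mul] at h1
      exact hcomap _ h1
    rw [mem_centralizer_iff]
    intro w hw
    rw [hSB] at hw
    obtain ⟨p, hp, rfl⟩ := hw
    have h1 : π (p * c * p⁻¹ * c⁻¹) = 1 := (hπU _).2 (hU.abel _ hp _ hcP)
    rw [map_mul, map_mul, map_mul, map_inv, map_inv, mul_inv_eq_one, mul_inv_eq_iff_eq_mul] at h1
    exact h1
  have hcompl := MonoidHom.ker_transferSylow_isComplement' SB hB
  set K' := (MonoidHom.transferSylow SB hB).ker with hK'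
  have hKodd : Odd (Nat.card K') := by
    rw [← hcompl.index_eq_card, Nat.odd_iff, ← Nat.two_dvd_ne_zero]
    exact SB.not_dvd_index
  have hodd_mem : ∀ z, Odd (orderOf z) → z ∈ K' := by
    intro z hz
    rw [hK', MonoidHom.mem_ker, ← orderOf_eq_one_iff]
    have h1 : orderOf (MonoidHom.transferSylow SB hB z) ∣ orderOf z := orderOf_map_dvd _ z
    obtain ⟨k, hk⟩ := SB.2 (MonoidHom.transferSylow SB hB z)
    obtain ⟨i, -, hi⟩ := (Nat.dvd_prime_pow Nat.prime_two).1 (orderOf_dvd_of_pow_eq_one hk)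
    have hcop : Nat.Coprime (2 ^ i) (orderOf z) := Nat.Coprime.pow_left i hz.coprime_two_left
    rw [hi] at h1 ⊢
    exact Nat.Coprime.eq_one_of_dvd hcop h1
  set N := (K'.comap π).map C.subtype with hN
  have hUN : U ≤ N := fun u hu =>
    ⟨⟨u, hUC hu⟩, by rw [SetLike.mem_coe, mem_comap, (hπU _).2 hu]; exact one_mem _, rfl⟩
  haveI : (U.subgroupOf N).Normal := by
    refine ⟨fun n hn g => ?_⟩
    have hgC : (g : X) ∈ C := map_subtype_le _ g.2
    show ((g : X) * n * (g : X)⁻¹) ∈ U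
    rw [← mem_centralizer_iff.1 hgC (n : X) hn, mul_inv_cancel_right]
    exact hn
  have hNU : N ≤ U := by
    refine h.four_free N U hUN hUY ?_ ?_ (fun q hq n hn => h.conj_mem_U hU hq hn)
    · rintro _ ⟨⟨c, hc, rfl⟩, hY⟩
      have h1 : π c ∈ (SB : Subgroup (↥C ⧸ U.subgroupOf C)) := by
        rw [hSB]
        exact ⟨c, ⟨hY, c.2⟩, rfl⟩
      have h2 : π c = 1 := (Subgroup.disjoint_def.1 hcompl.disjoint) hc h1
      exact (hπU c).1 h2
    · rintro q hq _ ⟨c, hc, rfl⟩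
      have hmem := hqC q hq c c.2
      refine ⟨⟨_, hmem⟩, ?_, rfl⟩
      refine mem_comap.2 (hodd_mem _ ?_)
      have ho : Odd (orderOf (π c)) := hKodd.of_dvd_nat (Subgroup.orderOf_dvd_natCard K' hc)
      refine ho.of_dvd_nat (orderOf_dvd_of_pow_eq_one ?_)
      rw [← map_pow, hπU]
      have h1 : ((c ^ orderOf (π c) : ↥C) : X) ∈ U :=
        (hπU _).1 (by rw [map_pow, pow_orderOf_eq_one])
      simpa [conj_pow] using h.conj_mem_U hU hq h1
  intro c hc
  have hall : π ⟨c, hc⟩ ∈ (SB : Subgroup (↥C ⧸ U.subgroupOf C)) := by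
    have hK'bot : K' = ⊥ := (Subgroup.eq_bot_iff_forall _).2 fun z hz => by
      obtain ⟨d, rfl⟩ := hπ z
      exact (hπU d).2 (hNU ⟨d, hz, rfl⟩)
    have htop : (SB : Subgroup (↥C ⧸ U.subgroupOf C)) = ⊤ := by
      have := hcompl.sup_eq_top
      rwa [hK'bot, bot_sup_eq] at this
    rw [htop]; trivial
  exact (hcomap _ hall).1

/-- An element normalising `U` lies in `Y`. -/
theorem Setting.mem_of_normalizes (h : Setting b t Y Q) (hU : Special b v Y Q U) {g : X}
    (hg : ∀ u ∈ U, g⁻¹ * u * g ∈ U) : g ∈ Y := by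
  refine h.blk ?_
  obtain ⟨q, hq, hact⟩ := hU.cover (g * t * g⁻¹) fun u hu => by
    have := h.near_conj g (h.comm t h.t_mem _ (hU.le (hg u hu)))
    rwa [show g * (g⁻¹ * u * g) * g⁻¹ = u by group,
      show g * (t * (g⁻¹ * u * g) * t⁻¹) * g⁻¹ = g * t * g⁻¹ * u * (g * t * g⁻¹)⁻¹ by group]
      at this
  have hc : q⁻¹ * (g * t * g⁻¹) ∈ centralizer (U : Set X) := by
    rw [mem_centralizer_iff]
    intro u hu
    calc u * (q⁻¹ * (g * t * g⁻¹)) = q⁻¹ * (q * u * q⁻¹) * (g * t * g⁻¹) := by group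
      _ = q⁻¹ * (g * t * g⁻¹) * u := by rw [← hact u hu]; group
  have := mul_mem (h.Q_le hq) (h.centralizer_U_le hU hc)
  rwa [mul_inv_cancel_left] at this

theorem Setting.mem_Q_of_special (h : Setting b t Y Q) {u x : X} (hu : u ∈ Q)
    (hU : Special b (x * u * x⁻¹) Y Q U) : x * u * x⁻¹ ∈ Q := by
  set L := stab h (x * u * x⁻¹) with hL
  have hUL : U ≤ L ⊓ Y := fun w hw =>
    ⟨(mem_stab h).2 ((hU.iff w (hU.le hw)).1 hw), h.Q_le (hU.le hw)⟩
  obtain ⟨R₀, hR₀, hUR, hR₀L, hmax₀⟩ := exists_maximal (h.two.to_le hU.le) hUL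
  by_cases hmax : ∀ T : Subgroup X, IsPGroup 2 T → R₀ ≤ T → T ≤ L → T = R₀
  · exact h.mem_Q_of_stab hu hR₀ (hR₀L.trans inf_le_left) hmax (hR₀L.trans inf_le_right)
  exfalso
  push Not at hmax
  obtain ⟨T, hT, hRT, hTL, hne⟩ := hmax
  obtain ⟨g, hgT, hgR, hg⟩ := exists_normalizer_gt hT (lt_of_le_of_ne hRT (Ne.symm hne))
  have hTY : T ⊓ Y = R₀ := hmax₀ _ (hT.to_le inf_le_left) (le_inf hRT (hR₀L.trans inf_le_right))
    (le_inf (inf_le_left.trans hTL) inf_le_right)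
  refine hgR (hTY ▸ ⟨hgT, h.mem_of_normalizes hU fun w hw => ?_⟩)
  have hgi := (mem_normalizer_iff.1 (mem_normalizer_fintype (S := (R₀ : Set X)) hg) (g⁻¹ * w * g)).2
    (by rw [show g * (g⁻¹ * w * g) * g⁻¹ = w by group]; exact hUR hw)
  have hY : g⁻¹ * w * g ∈ Y := (hR₀L hgi).2
  have hwQ := h.mem_Q_of_sq (x := g⁻¹) (hU.le hw) (hU.inv w hw) (by rwa [inv_inv])
  rw [inv_inv] at hwQ
  exact (hU.iff _ hwQ).2 (hR₀L hgi).1

/-- Conjugates in `Y` of elements of `Q` lie in `Q`. -/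
theorem Setting.strong (h : Setting b t Y Q) {u x : X} (hu : u ∈ Q) (hx : x * u * x⁻¹ ∈ Y) :
    x * u * x⁻¹ ∈ Q := by
  have hsq : Near b 1 (x * u * x⁻¹ * (x * u * x⁻¹)) := by
    have := h.near_conj x (h.sq u hu)
    rwa [mul_one, mul_inv_cancel, show x * (u * u) * x⁻¹ = x * u * x⁻¹ * (x * u * x⁻¹) by group]
      at this
  by_contra hv
  rcases h.cases _ hx hv hsq with ⟨y, hy, hd⟩ | ⟨-, U, hU⟩
  · exact hv (h.mem_Q_of_good hu hy hd)
  · exact hv (h.mem_Q_of_special hu hU)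

end Cfsg.Agent.Lib.HNType12.Whole
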